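import Groth.Agent.Lib.FEt.HenselianPair
import Groth.Agent.H34.Hens.ClopenLift
import Groth.Agent.Lib.Henselian.ProperClopen

/-!
# Finite etale covers of a proper scheme over a henselian pair: full faithfulness
-/

set_option linter.style.haveILetI false

noncomputable section

universe u

open CategoryTheory CategoryTheory.Limits AlgebraicGeometry

namespace Groth.Agent.Lib.PropHens

open Groth.Agent.Lib.FEt

/-- Restriction along a composite. -/
def restrictComp {X Y Z : Scheme.{u}} (a : X ⟶ Y) (b : Y ⟶ Z) :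
    FEt.restrict (a ≫ b) ≅ FEt.restrict b ⋙ FEt.restrict a :=
  MorphismProperty.Over.pullbackComp a b

/-- Restriction along equal morphisms. -/
def restrictCongr {X Y : Scheme.{u}} {a b : X ⟶ Y} (h : a = b) :
    FEt.restrict a ≅ FEt.restrict b := eqToIso (congrArg FEt.restrict h)

/-- A cover which comes from one along a composite comes from one along the first factor. -/
theorem mem_essImage_of_comp {X Y Z : Scheme.{u}} (a : X ⟶ Y) (b : Y ⟶ Z) {c : X ⟶ Z}
    (h : a ≫ b = c) {V : FEt.Cat X} (W : FEt.Cat Z) (e : (FEt.restrict c).obj W ≅ V) :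
    ∃ U : FEt.Cat Y, Nonempty ((FEt.restrict a).obj U ≅ V) :=
  ⟨(FEt.restrict b).obj W, ⟨((restrictComp a b).app W).symm ≪≫ (restrictCongr h).app W ≪≫ e⟩⟩

/-- If `V` comes from `V'` and `V'` from `W'`, then `V` comes from `W'` along the composite. -/
def restrictTrans {X Y Z : Scheme.{u}} (a : X ⟶ Y) (b : Y ⟶ Z) {c : X ⟶ Z} (h : a ≫ b = c)
    {V : FEt.Cat X} {V' : FEt.Cat Y} {W : FEt.Cat Z} (e : (FEt.restrict a).obj V' ≅ V)
    (e' : (FEt.restrict b).obj W ≅ V') : (FEt.restrict c).obj W ≅ V :=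
  ((restrictCongr h).app W).symm ≪≫ (restrictComp a b).app W ≪≫ (FEt.restrict a).mapIso e' ≪≫ e

/-- Covers come from a diagonal square. -/
theorem mem_essImage_of_square {X₀ X X₀' X' : Scheme.{u}} (i : X₀ ⟶ X) (u₀ : X₀ ⟶ X₀')
    (i' : X₀' ⟶ X') (v : X ⟶ X') (w : i ≫ v = u₀ ≫ i') {V : FEt.Cat X₀} {V' : FEt.Cat X₀'}
    (e : (FEt.restrict u₀).obj V' ≅ V) {W : FEt.Cat X'} (e' : (FEt.restrict i').obj W ≅ V') :
    ∃ U : FEt.Cat X, Nonempty ((FEt.restrict i).obj U ≅ V) :=
  mem_essImage_of_comp i v w W (restrictTrans u₀ i' rfl e e')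

variable {A : Type u} [CommRing A] (I : Ideal A) {X : Scheme.{u}} (f : X ⟶ Spec (CommRingCat.of A))

/-- The inclusion of the closed part. -/
abbrev closedPart : pullback f (HenselianPair.incl I) ⟶ X := pullback.fst f (HenselianPair.incl I)

theorem range_closedPart :
    Set.range (closedPart I f).base = f.base ⁻¹' PrimeSpectrum.zeroLocus (I : Set A) :=
  Groth.Agent.Lib.Henselian.ProperClopen.range_fst_quotient I f

theorem meetsClopens [IsProper f] (hI : I ≤ Ideal.jacobson ⊥) :
    Conservative.MeetsClopens X (Set.range (closedPart I f).base) := by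
  intro s hs hne
  obtain ⟨m, ⟨x, hx, hxm⟩, hmc⟩ :=
    (f.isClosedMap _ hs.isClosed).exists_closed_singleton (hne.image _)
  refine ⟨x, hx, ?_⟩
  rw [range_closedPart]
  have hmax : (m : PrimeSpectrum A).asIdeal.IsMaximal :=
    (PrimeSpectrum.isClosed_singleton_iff_isMaximal m).1 hmc
  change I ≤ ((f.base x : Spec (CommRingCat.of A)) : PrimeSpectrum A).asIdeal
  rw [show f.base x = m from hxm]
  exact hI.trans (sInf_le ⟨bot_le, hmax⟩)

theorem exists_clopen [HenselianRing A I] [IsProper f] (W : FEt.Cat X)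
    (C : Set (pullback W.hom (closedPart I f) : Scheme.{u})) (hC : IsClopen C) :
    ∃ D : Set W.left, IsClopen D ∧ (pullback.fst W.hom (closedPart I f)).base ⁻¹' D = C := by
  let w : W.left ⟶ X := W.hom
  haveI : IsFinite w := W.prop.1
  haveI : IsProper (w ≫ f) := inferInstance
  haveI : IsClosedImmersion (HenselianPair.incl I) :=
    IsClosedImmersion.spec_of_surjective _ Ideal.Quotient.mk_surjective
  let O : (pullback W.hom (closedPart I f)).Opens := ⟨C, hC.isOpen⟩
  let j := pullback.fst w (closedPart I f)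
  haveI : IsClosedImmersion (O.ι) := .of_isPreimmersion _ (by
    rw [Scheme.Opens.range_ι]; exact hC.isClosed)
  haveI : IsProper ((O.ι ≫ j) ≫ w ≫ f) := inferInstance
  have hr : Set.range (O.ι ≫ j).base = j.base '' C := by
    rw [Scheme.Hom.comp_base, TopCat.coe_comp, Set.range_comp, Scheme.Opens.range_ι]; rfl
  have hjr : Set.range j.base = (w ≫ f).base ⁻¹' PrimeSpectrum.zeroLocus (I : Set A) := by
    change Set.range (pullback.fst w (closedPart I f)) = _
    rw [Scheme.Pullback.range_fst, range_closedPart]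
    rfl
  obtain ⟨D, hDc, -, hD⟩ := Groth.Agent.H34.Hens.exists_clopen_lift I (w ≫ f) (O.ι ≫ j) inferInstance
    (by rw [hr, ← hjr]; exact Set.image_subset_range _ _)
    (by
      obtain ⟨P, hP, hPC⟩ := j.isClosedEmbedding.isInducing.isOpen_iff.1 hC.isOpen
      refine isOpen_induced_iff.2 ⟨P, hP, ?_⟩
      rw [hr, ← hPC, Set.image_preimage_eq_inter_range, hjr]
      ext ⟨x, hx⟩
      exact ⟨fun h => ⟨h, hx⟩, fun h => h.1⟩)
  refine ⟨D, ⟨hDc, D.2⟩, ?_⟩
  have h1 := hD
  rw [hr, ← hjr, ← Set.image_preimage_eq_inter_range] at h1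
  exact (Set.image_injective.2 j.isClosedEmbedding.injective) h1

theorem full_and_faithful [HenselianRing A I] [IsProper f] :
    (FEt.restrict (closedPart I f)).Full ∧ (FEt.restrict (closedPart I f)).Faithful :=
  FullyFaithful.full_and_faithful _ (meetsClopens I f HenselianRing.jac) (exists_clopen I f)

end Groth.Agent.Lib.PropHens
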