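import Groth.Agent.S0396
import Groth.Agent.Lib.Unram.AtPrime
import Groth.Agent.H95.Units.Cuts
import Groth.Prelude.Def_CohB1
import Mathlib.AlgebraicGeometry.Morphisms.Etale
import Mathlib.AlgebraicGeometry.Morphisms.Finite
import Mathlib.AlgebraicGeometry.Morphisms.Proper
import Mathlib.AlgebraicGeometry.Noetherian
import Mathlib.RingTheory.Etale.Locus

/-!
# A finite morphism over a proper scheme which is étale on all thickenings is étale
-/

set_option linter.style.haveILetI false

noncomputable section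

universe u

open CategoryTheory CategoryTheory.Limits AlgebraicGeometry TopologicalSpace
open scoped TensorProduct

namespace Groth.Agent.Lib.PropHens.EtaleThick

attribute [local instance] Algebra.TensorProduct.rightAlgebra

/-- A finite algebra étale modulo all powers of an ideal is étale at the primes over it. -/
theorem isEtaleAt_of_quotients {R S : Type u} [CommRing R] [IsNoetherianRing R] [CommRing S]
    [Algebra R S] [Module.Finite R S] (J : Ideal R)
    (h : ∀ n : ℕ, 0 < n → Algebra.Etale (R ⧸ J ^ n) ((R ⧸ J ^ n) ⊗[R] S))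
    (q : Ideal S) [q.IsPrime] (hq : J.map (algebraMap R S) ≤ q) : Algebra.IsEtaleAt R q := by
  haveI : IsNoetherianRing S := IsNoetherianRing.of_finite R S
  haveI : Algebra.FinitePresentation R S := Algebra.FinitePresentation.of_finiteType.1 inferInstance
  refine (Groth.Agent.Lib.Unram.AtPrime.isEtaleAt_iff R S q).2 ⟨?_, ?_⟩
  · exact Groth.Agent.S0396.result (M := S) J (fun n hn => haveI := h n hn; inferInstance) q hq
  · haveI := h 1 one_pos
    haveI : Subsingleton ((R ⧸ J ^ 1) ⊗[R] Ω[S⁄R]) :=
      (KaehlerDifferential.tensorKaehlerEquivBase R (R ⧸ J ^ 1) S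
        ((R ⧸ J ^ 1) ⊗[R] S)).toEquiv.subsingleton
    have hsub : ∀ x : Ω[S⁄R], x ∈ (J.map (algebraMap R S)) • (⊤ : Submodule S Ω[S⁄R]) := fun x => by
      have h0 : Submodule.Quotient.mk (p := J ^ 1 • (⊤ : Submodule R Ω[S⁄R])) x = 0 :=
        (TensorProduct.quotTensorEquivQuotSMul Ω[S⁄R] (J ^ 1)).symm.injective (Subsingleton.elim _ _)
      rw [Submodule.Quotient.mk_eq_zero, pow_one] at h0
      refine Submodule.smul_induction_on h0 (fun r hr y _ => ?_) (fun a b ha hb => add_mem ha hb)
      rw [← IsScalarTower.algebraMap_smul S r y]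
      exact Submodule.smul_mem_smul (Ideal.mem_map_of_mem _ hr) trivial
    let P : PrimeSpectrum S := ⟨q, inferInstance⟩
    have hns : P ∉ Module.support S Ω[S⁄R] := fun hP => by
      have h1 : P ∈ Module.support S (Ω[S⁄R] ⧸ (J.map (algebraMap R S)) • (⊤ : Submodule S Ω[S⁄R])) := by
        rw [Module.support_quotient]
        exact ⟨hP, hq⟩
      rw [Module.mem_support_iff] at h1
      haveI : Subsingleton (Ω[S⁄R] ⧸ (J.map (algebraMap R S)) • (⊤ : Submodule S Ω[S⁄R])) :=
        Submodule.Quotient.subsingleton_iff.2 (eq_top_iff.2 fun x _ => hsub x)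
      exact not_subsingleton _ (inferInstance : Subsingleton
        (LocalizedModule q.primeCompl (Ω[S⁄R] ⧸ (J.map (algebraMap R S)) • (⊤ : Submodule S Ω[S⁄R]))))
    have : P ∈ Algebra.unramifiedLocus R S := by
      rw [Algebra.unramifiedLocus_eq_compl_support]
      exact hns
    exact this

variable {A : Type u} [CommRing A] (I : Ideal A) {X : Scheme.{u}} (f : X ⟶ Spec (CommRingCat.of A))

theorem fromSpec_comp {U : X.Opens} (hU : IsAffineOpen U) :
    hU.fromSpec ≫ f = Spec.map (CommRingCat.ofHom (H95.Units.α f U)) := by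
  rw [← (isAffineOpen_top (Spec (CommRingCat.of A))).SpecMap_appLE_fromSpec f hU le_top,
    IsAffineOpen.fromSpec_top, Scheme.isoSpec_Spec_inv, ← Spec.map_comp]
  rfl

/-- The locus over which a finite morphism, étale on all thickenings, is étale contains the closed part. -/
theorem exists_etale_nhd [IsLocallyNoetherian X] {W : Scheme.{u}} (g : W ⟶ X) [IsFinite g]
    (h : ∀ n, Etale (pullback.snd g (CohB1.thickι f I n))) (x : X)
    (hx : f.base x ∈ PrimeSpectrum.zeroLocus (I : Set A)) :
    ∃ V : X.Opens, x ∈ V ∧ Etale (g ∣_ V) := by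
  obtain ⟨U, hU, hxU, -⟩ := exists_isAffineOpen_mem_and_subset (x := x) (U := (⊤ : X.Opens)) trivial
  have hW : IsAffineOpen (g ⁻¹ᵁ U) := hU.preimage g
  haveI := IsLocallyNoetherian.component_noetherian (X := X) ⟨U, hU⟩
  let φ := g.app U
  have hfin : φ.hom.Finite := g.finite_app U hU
  algebraize [φ.hom]
  let R := Γ(X, U)
  let S := Γ(W, g ⁻¹ᵁ U)
  let J : Ideal R := I.map (H95.Units.α f U)
  have hsq : IsPullback hW.fromSpec (Spec.map φ) g hU.fromSpec := by
    haveI : IsOpenImmersion hU.fromSpec := hU.isOpenImmersion_fromSpec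
    haveI : IsOpenImmersion hW.fromSpec := hW.isOpenImmersion_fromSpec
    refine (IsOpenImmersion.isPullback (Spec.map φ) hW.fromSpec hU.fromSpec g ?_ ?_).flip
    · rw [← hU.SpecMap_appLE_fromSpec g hW le_rfl, Scheme.Hom.appLE_eq_app]
    · rw [hU.opensRange_fromSpec, hW.opensRange_fromSpec]
  have het : ∀ n : ℕ, 0 < n → Algebra.Etale (R ⧸ J ^ n) ((R ⧸ J ^ n) ⊗[R] S) := by
    rintro (_ | n) hn
    · exact absurd hn (lt_irrefl 0)
    let T := R ⧸ J ^ (n + 1)
    let y : Spec (CommRingCat.of T) ⟶ X := Spec.map (CommRingCat.ofHom (algebraMap R T)) ≫ hU.fromSpec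
    let q' : A ⧸ I ^ (n + 1) →+* T :=
      Ideal.quotientMap (J ^ (n + 1)) (H95.Units.α f U) (Ideal.map_le_iff_le_comap.1 (Ideal.map_pow _ _ _).le)
    let z : Spec (CommRingCat.of T) ⟶ CohB1.thick f I n :=
      pullback.lift y (Spec.map (CommRingCat.ofHom q')) (by
        rw [Category.assoc, fromSpec_comp, CohB1.specQuot, ← Spec.map_comp, ← Spec.map_comp]
        rfl)
    have hz : z ≫ CohB1.thickι f I n = y := pullback.lift_fst _ _ _
    have h1 : Etale (pullback.snd g y) := by
      rw [← hz, ← pullbackLeftPullbackSndIso_inv_snd_snd]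
      exact MorphismProperty.comp_mem _ _ _ inferInstance
        (MorphismProperty.of_isPullback (P := @Etale) (IsPullback.of_hasPullback _ _) (h n))
    have hpb : IsPullback
        (Spec.map (CommRingCat.ofHom (Algebra.TensorProduct.includeRight : S →ₐ[R] T ⊗[R] S).toRingHom))
        (Spec.map (CommRingCat.ofHom (Algebra.TensorProduct.includeLeftRingHom : T →+* T ⊗[R] S)))
        (Spec.map φ) (Spec.map (CommRingCat.ofHom (algebraMap R T))) :=
      (isPullback_SpecMap_of_isPushout _ _ _ _ (CommRingCat.isPushout_tensorProduct R T S)).flip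
    have hbig := hpb.paste_horiz hsq
    have h2 : Etale (Spec.map (CommRingCat.ofHom
        (Algebra.TensorProduct.includeLeftRingHom : T →+* T ⊗[R] S))) := by
      rw [← hbig.isoPullback_hom_snd]
      exact MorphismProperty.comp_mem _ _ _ inferInstance h1
    rw [HasRingHomProperty.Spec_iff (P := @Etale)] at h2
    exact RingHom.etale_algebraMap.mp h2
  haveI : Algebra.FinitePresentation R S := Algebra.FinitePresentation.of_finiteType.1 inferInstance
  -- the image of the points where `g` is not étale misses `x`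
  let B : Set (PrimeSpectrum R) := PrimeSpectrum.comap (algebraMap R S) '' (Algebra.etaleLocus R S)ᶜ
  have hBc : IsClosed B := (algebraMap_isIntegral_iff.2 inferInstance |>
    PrimeSpectrum.isClosedMap_comap_of_isIntegral _) _ Algebra.isOpen_etaleLocus.isClosed_compl
  let p := hU.primeIdealOf ⟨x, hxU⟩
  have hJp : J ≤ p.asIdeal := by
    have e : f.base x = (Spec.map (CommRingCat.ofHom (H95.Units.α f U))).base p := by
      rw [← fromSpec_comp f hU]
      change f.base x = f.base (hU.fromSpec.base p)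
      rw [hU.fromSpec_primeIdealOf]
    rw [e] at hx
    exact Ideal.map_le_iff_le_comap.2 hx
  have hpB : p ∉ B := by
    rintro ⟨Q, hQ, hQp⟩
    refine hQ ((isEtaleAt_of_quotients J het Q.asIdeal (Ideal.map_le_iff_le_comap.2 ?_)) :)
    rw [← hQp] at hJp
    exact hJp
  obtain ⟨_, ⟨_, ⟨r, rfl⟩, rfl⟩, hpr, hrB⟩ :=
    PrimeSpectrum.isBasis_basic_opens.exists_subset_of_mem_open
      (show p ∈ Bᶜ from hpB) hBc.isOpen_compl
  have hloc : Algebra.Etale R (Localization.Away (algebraMap R S r)) := by
    refine Algebra.basicOpen_subset_etaleLocus_iff_etale.1 fun Q hQ => ?_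
    by_contra hQe
    exact hrB (show PrimeSpectrum.comap (algebraMap R S) Q ∈ PrimeSpectrum.basicOpen r from hQ)
      ⟨Q, hQe, rfl⟩
  refine ⟨X.basicOpen r, ?_, ?_⟩
  · have h3 : p ∈ hU.fromSpec ⁻¹ᵁ X.basicOpen r := by
      rw [hU.fromSpec_preimage_basicOpen]
      exact hpr
    change hU.fromSpec.base p ∈ X.basicOpen r at h3
    rwa [hU.fromSpec_primeIdealOf] at h3
  · let b := φ r
    have hpre : g ⁻¹ᵁ X.basicOpen r = W.basicOpen b := Scheme.preimage_basicOpen g r
    have e : W.basicOpen b ≤ g ⁻¹ᵁ U := W.basicOpen_le b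
    have := hW.isLocalization_basicOpen b
    have h4 : (g.appLE U (W.basicOpen b) e).hom.Etale := by
      have het' := RingHom.etale_algebraMap.2 hloc
      convert! RingHom.Etale.respectsIso.1 _
        (IsLocalization.algEquiv (.powers b) _ Γ(W, W.basicOpen b)).toRingEquiv het'
      ext z
      dsimp
      rw [IsScalarTower.algebraMap_apply R S (Localization.Away (algebraMap R S r))]
      erw [AlgEquiv.commutes]
      rw [RingHom.algebraMap_toAlgebra, RingHom.algebraMap_toAlgebra, ← ConcreteCategory.comp_apply,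
        show φ = g.appLE U (g ⁻¹ᵁ U) le_rfl from Scheme.Hom.app_eq_appLE g, Scheme.Hom.appLE_map]
    haveI : IsAffine (U : Scheme.{u}) := hU
    haveI : IsAffine (W.basicOpen b : Scheme.{u}) := hW.basicOpen b
    haveI : Etale (g.resLE U (W.basicOpen b) e) := by
      rw [HasRingHomProperty.iff_of_isAffine (P := @Etale)]
      exact (RingHom.Etale.respectsIso.arrow_mk_iso_iff (arrowResLEAppIso g U (W.basicOpen b) e)).mpr h4
    haveI h5 : Etale ((g ⁻¹ᵁ X.basicOpen r).ι ≫ g) := by
      rw [hpre, ← Scheme.Hom.resLE_comp_ι g e]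
      infer_instance
    haveI : Etale (g ∣_ X.basicOpen r ≫ (X.basicOpen r).ι) := by rw [morphismRestrict_ι]; exact h5
    exact Etale.of_comp (g ∣_ X.basicOpen r) (X.basicOpen r).ι

/-- A finite morphism onto a proper scheme over a ring with `I` in the Jacobson radical, étale on all
thickenings, is étale. -/
theorem etale [IsLocallyNoetherian X] [UniversallyClosed f] (hI : I ≤ Ideal.jacobson ⊥)
    {W : Scheme.{u}} (g : W ⟶ X) [IsFinite g]
    (h : ∀ n, Etale (pullback.snd g (CohB1.thickι f I n))) : Etale g := by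
  let G : Set X := {x | ∃ V : X.Opens, x ∈ V ∧ Etale (g ∣_ V)}
  have hG : IsOpen G := isOpen_iff_forall_mem_open.2 fun x ⟨V, hxV, hV⟩ =>
    ⟨V, fun z hz => ⟨V, hz, hV⟩, V.2, hxV⟩
  have huniv : G = Set.univ := by
    by_contra hne
    obtain ⟨m, ⟨x, hx, hxm⟩, hmc⟩ := (f.isClosedMap _ hG.isClosed_compl).exists_closed_singleton
      ((Set.nonempty_compl.2 hne).image _)
    refine hx (exists_etale_nhd I f g h x ?_)
    have hmax : (m : PrimeSpectrum A).asIdeal.IsMaximal :=
      (PrimeSpectrum.isClosed_singleton_iff_isMaximal m).1 hmc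
    change I ≤ ((f.base x : Spec (CommRingCat.of A)) : PrimeSpectrum A).asIdeal
    rw [show f.base x = m from hxm]
    exact hI.trans (sInf_le ⟨bot_le, hmax⟩)
  choose V hxV hV using fun x : X => (huniv.symm ▸ Set.mem_univ x : x ∈ G)
  exact (IsZariskiLocalAtTarget.iff_of_iSup_eq_top (P := @Etale) V
    (top_le_iff.1 fun x _ => Opens.mem_iSup.2 ⟨x, hxV x⟩)).2 hV

end Groth.Agent.Lib.PropHens.EtaleThick
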