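import Groth.Agent.Lib.PropHens.Basic
import Groth.Agent.Lib.PropHens.EtaleThick
import Groth.Agent.Lib.FormalFin.Main
import Groth.Agent.S0238

/-!
# Finite etale covers of a proper scheme over a complete noetherian ring
-/

set_option linter.style.haveILetI false

noncomputable section

universe u

open CategoryTheory CategoryTheory.Limits AlgebraicGeometry

namespace Groth.Agent.Lib.PropHens.Complete

open Groth.Agent.Lib.FEt

variable {A : Type u} [CommRing A] (I : Ideal A) {X : Scheme.{u}} (f : X ⟶ Spec (CommRingCat.of A))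

/-- The map `Spec (A/I) ⟶ Spec (A/I^(n+1))`. -/
abbrev redBase (n : ℕ) : Spec (CommRingCat.of (A ⧸ I)) ⟶ Spec (CommRingCat.of (A ⧸ I ^ (n + 1))) :=
  Spec.map (CommRingCat.ofHom (Ideal.Quotient.factor (Ideal.pow_le_self n.succ_ne_zero)))

theorem redBase_specQuot (n : ℕ) : redBase I n ≫ CohB1.specQuot I n = HenselianPair.incl I := by
  rw [CohB1.specQuot, ← Spec.map_comp]
  rfl

/-- The closed part inside the thickenings. -/
def red (n : ℕ) : pullback f (HenselianPair.incl I) ⟶ CohB1.thick f I n :=
  pullback.lift (pullback.fst _ _) (pullback.snd _ _ ≫ redBase I n)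
    (by rw [Category.assoc, redBase_specQuot]; exact pullback.condition)

@[reassoc]
theorem red_ι (n : ℕ) : red I f n ≫ CohB1.thickι f I n = closedPart I f := pullback.lift_fst _ _ _

theorem red_trans (n : ℕ) : red I f n ≫ CohB1.thickTrans f I n = red I f (n + 1) := by
  haveI := H78.Closed.Thick.closed_thickι f I (n + 1)
  rw [← cancel_mono (CohB1.thickι f I (n + 1)), Category.assoc, H78.Closed.Thick.thickTrans_ι,
    red_ι, red_ι]

theorem isPullback_red (n : ℕ) : IsPullback (red I f n) (pullback.snd f (HenselianPair.incl I))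
    (CohB1.thickToBase f I n) (redBase I n) := by
  refine IsPullback.of_right (h₁₂ := CohB1.thickι f I n) (h₂₂ := CohB1.specQuot I n) (v₁₃ := f) ?_
    (pullback.lift_snd _ _ _) (IsPullback.of_hasPullback _ _)
  rw [red_ι, redBase_specQuot]
  exact IsPullback.of_hasPullback _ _

theorem isClosedImmersion_red (n : ℕ) : IsClosedImmersion (red I f n) :=
  MorphismProperty.of_isPullback (P := @IsClosedImmersion) (isPullback_red I f n).flip
    (IsClosedImmersion.spec_of_surjective _ (Ideal.Quotient.factor_surjective (Ideal.pow_le_self n.succ_ne_zero)))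

theorem surjective_red (n : ℕ) : Surjective (red I f n) := by
  refine MorphismProperty.of_isPullback (P := @Surjective) (isPullback_red I f n).flip ⟨fun p => ?_⟩
  have hp : ((I : Ideal A).map (Ideal.Quotient.mk (I ^ (n + 1)))) ≤ (p : PrimeSpectrum (A ⧸ I ^ (n + 1))).asIdeal := by
    rw [← Ideal.IsPrime.pow_le_iff (I := I.map (Ideal.Quotient.mk (I ^ (n + 1)))) n.succ_ne_zero,
      ← Ideal.map_pow, Ideal.map_quotient_self]
    exact bot_le
  have : (p : PrimeSpectrum (A ⧸ I ^ (n + 1))) ∈
      Set.range (PrimeSpectrum.comap (Ideal.Quotient.factor (Ideal.pow_le_self (I := I) n.succ_ne_zero))) := by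
    rw [range_comap_of_surjective _ _ (Ideal.Quotient.factor_surjective _)]
    rw [Ideal.Quotient.factor_ker]
    exact hp
  exact this

theorem isEquivalence_red (n : ℕ) : (FEt.restrict (red I f n)).IsEquivalence :=
  haveI := isClosedImmersion_red I f n
  haveI := surjective_red I f n
  Groth.Agent.S0238.result (red I f n)

variable [IsNoetherianRing A] [IsAdicComplete I A] [IsProper f]

/-- Finite étale covers of the closed part lift. -/
theorem exists_lift (V₀ : FEt.Cat (pullback f (HenselianPair.incl I))) :
    ∃ W : FEt.Cat X, Nonempty ((FEt.restrict (closedPart I f)).obj W ≅ V₀) := by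
  haveI := isEquivalence_red I f
  let V : ∀ n, FEt.Cat (CohB1.thick f I n) := fun n => (FEt.restrict (red I f n)).objPreimage V₀
  let e : ∀ n, (FEt.restrict (red I f n)).obj (V n) ≅ V₀ := fun n =>
    (FEt.restrict (red I f n)).objObjPreimageIso V₀
  let d : ∀ n, (FEt.restrict (CohB1.thickTrans f I n)).obj (V (n + 1)) ≅ V n := fun n =>
    (FEt.restrict (red I f n)).preimageIso
      (((restrictComp (red I f n) (CohB1.thickTrans f I n)).app (V (n + 1))).symm ≪≫
        (restrictCongr (red_trans I f n)).app (V (n + 1)) ≪≫ e (n + 1) ≪≫ (e n).symm)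
  let y : ∀ n, (V n).left ⟶ CohB1.thick f I n := fun n => (V n).hom
  let dl : ∀ n, pullback (y (n + 1)) (CohB1.thickTrans f I n) ≅ (V n).left := fun n =>
    { hom := (d n).hom.left
      inv := (d n).inv.left
      hom_inv_id := congrArg (fun k => k.left) (d n).hom_inv_id
      inv_hom_id := congrArg (fun k => k.left) (d n).inv_hom_id }
  have hdl : ∀ n, (dl n).hom ≫ y n = pullback.snd _ _ := fun n => Over.w (d n).hom.hom
  let t : ∀ n, (V n).left ⟶ (V (n + 1)).left := fun n => (dl n).inv ≫ pullback.fst _ _
  have hty : ∀ n, (dl n).inv ≫ pullback.snd _ _ = y n := fun n => by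
    rw [← hdl n, Iso.inv_hom_id_assoc]
  have ht : ∀ n, IsPullback (t n) (y n) (y (n + 1)) (CohB1.thickTrans f I n) := fun n =>
    IsPullback.of_iso_pullback ⟨by simp only [t, Category.assoc]; rw [pullback.condition, ← hty n, Category.assoc]⟩
      (dl n).symm (by simp [t]) (hty n)
  have hy : ∀ n, IsFinite (y n) := fun n => (V n).prop.1
  have hye : ∀ n, Etale (y n) := fun n => (V n).prop.2
  have hp : IsProper (y 0 ≫ CohB1.thickToBase f I 0) := by
    haveI := hy 0
    haveI : IsProper (CohB1.thickToBase f I 0) :=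
      MorphismProperty.pullback_snd (P := @IsProper) _ _ inferInstance
    exact MorphismProperty.comp_mem _ _ _ inferInstance inferInstance
  obtain ⟨W, i, w, hi, hip, -, hw⟩ := FormalFin.exists_finite f I y t hy hp ht
  haveI := hi
  haveI : IsLocallyNoetherian X := LocallyOfFiniteType.isLocallyNoetherian f
  have het : Etale i := EtaleThick.etale I f (IsAdicComplete.le_jacobson_bot I) i fun n => by
    have h1 : (hw n).isoPullback.inv ≫ y n = pullback.snd i (CohB1.thickι f I n) :=
      (hw n).isoPullback_inv_snd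
    rw [← h1]
    exact MorphismProperty.comp_mem _ _ _ inferInstance (hye n)
  let Wc : FEt.Cat X := MorphismProperty.Over.mk ⊤ i ⟨hi, het⟩
  let e0 : (FEt.restrict (CohB1.thickι f I 0)).obj Wc ≅ V 0 :=
    MorphismProperty.Over.isoMk (hw 0).isoPullback.symm (hw 0).isoPullback_inv_snd
  exact ⟨Wc, ⟨restrictTrans (red I f 0) (CohB1.thickι f I 0) (red_ι I f 0) (e 0) e0⟩⟩

end Groth.Agent.Lib.PropHens.Complete
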