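import Groth.Agent.Lib.PropHens.Complete
import Groth.Agent.H21.PopescuApprox
import Groth.Agent.Lib.H53.FinSub
import Groth.Agent.S12073
import Groth.Agent.S0600

/-!
# Finite etale covers of a proper scheme over a henselian pair with regular completion map
-/

set_option linter.style.haveILetI false
set_option backward.isDefEq.respectTransparency false

noncomputable section

universe u

open CategoryTheory CategoryTheory.Limits AlgebraicGeometry Opposite

namespace Groth.Agent.Lib.PropHens.GRing

open Groth.Agent.Lib.FEt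

/-- Covers of the closed part lift over a henselian pair with regular completion map. -/
theorem exists_lift {A : Type u} [CommRing A] (hG : _root_.CAlg.IsGRing A) (I : Ideal A) [HenselianRing A I]
    {X : Scheme.{u}} (f : X ⟶ Spec (CommRingCat.of A)) [IsProper f]
    (V₀ : FEt.Cat (pullback f (HenselianPair.incl I))) :
    ∃ W : FEt.Cat X, Nonempty ((FEt.restrict (closedPart I f)).obj W ≅ V₀) := by
  classical
  haveI : IsNoetherianRing A := hG.1
  have hreg := Groth.Agent.S0600.result A hG I
  let C := AdicCompletion I A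
  haveI : IsNoetherianRing C := Groth.Agent.Lib.Excellent.CompletionNoetherian.isNoetherianRing_adicCompletion I
  haveI : IsAdicComplete I C := AdicCompletion.isAdicComplete (IsNoetherian.noetherian I)
  let J : Ideal C := I.map (algebraMap A C)
  haveI : IsAdicComplete J C := (IsAdicComplete.map_algebraMap_iff I C).mpr inferInstance
  let θ : C →ₐ[A] A ⧸ I :=
    (Ideal.Quotient.factorₐ A (pow_one I).le).comp (AdicCompletion.evalₐ I 1)
  have hθJ : J ≤ RingHom.ker θ.toRingHom := Ideal.map_le_iff_le_comap.2 fun a ha => by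
    show θ (algebraMap A C a) = 0
    rw [AlgHom.commutes]
    exact Ideal.Quotient.eq_zero_iff_mem.2 ha
  let qb : C ⧸ J →+* A ⧸ I := Ideal.Quotient.lift J θ.toRingHom fun c hc => hθJ hc
  let rb : A ⧸ I →+* C ⧸ J := Ideal.quotientMap J (algebraMap A C) Ideal.le_comap_map
  have hqr : qb.comp rb = RingHom.id _ := Ideal.Quotient.ringHom_ext (RingHom.ext fun a => θ.commutes a)
  let sA : Spec (CommRingCat.of C) ⟶ Spec (CommRingCat.of A) := Spec.map (CommRingCat.ofHom (algebraMap A C))
  let f' : pullback f sA ⟶ Spec (CommRingCat.of C) := pullback.snd f sA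
  have hθ : Spec.map (CommRingCat.ofHom θ.toRingHom) ≫ sA = HenselianPair.incl I := by
    rw [← Spec.map_comp]
    exact congrArg Spec.map (CommRingCat.hom_ext (RingHom.ext fun a => θ.commutes a))
  let m : pullback f (HenselianPair.incl I) ⟶ pullback f sA :=
    pullback.lift (pullback.fst _ _) (pullback.snd _ _ ≫ Spec.map (CommRingCat.ofHom θ.toRingHom))
      (by rw [Category.assoc, hθ]; exact pullback.condition)
  let m₀ : pullback f (HenselianPair.incl I) ⟶ pullback f' (HenselianPair.incl J) :=
    pullback.lift m (pullback.snd _ _ ≫ Spec.map (CommRingCat.ofHom qb)) (by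
      rw [pullback.lift_snd, Category.assoc, ← Spec.map_comp]
      rfl)
  let φ₀ : pullback f' (HenselianPair.incl J) ⟶ pullback f (HenselianPair.incl I) :=
    pullback.lift (pullback.fst _ _ ≫ pullback.fst f sA)
      (pullback.snd _ _ ≫ Spec.map (CommRingCat.ofHom rb)) (by
      rw [Category.assoc, pullback.condition, ← Category.assoc, pullback.condition, Category.assoc,
        Category.assoc, ← Spec.map_comp, ← Spec.map_comp]
      rfl)
  have hmφ : m₀ ≫ φ₀ = 𝟙 _ := by
    apply pullback.hom_ext
    · rw [Category.assoc, pullback.lift_fst, pullback.lift_fst_assoc, Category.id_comp, pullback.lift_fst]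
    · rw [Category.assoc, pullback.lift_snd, pullback.lift_snd_assoc, Category.id_comp,
        Category.assoc, ← Spec.map_comp, ← CommRingCat.ofHom_comp, hqr, CommRingCat.ofHom_id, Spec.map_id, Category.comp_id]
  haveI : IsProper f' := MorphismProperty.pullback_snd (P := @IsProper) _ _ inferInstance
  obtain ⟨W', ⟨eW'⟩⟩ := Complete.exists_lift J f' ((FEt.restrict φ₀).obj V₀)
  let e₀ : (FEt.restrict m₀).obj ((FEt.restrict φ₀).obj V₀) ≅ V₀ :=
    ((restrictComp m₀ φ₀).app V₀).symm ≪≫ (restrictCongr hmφ).app V₀ ≪≫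
      MorphismProperty.Over.isoMk (asIso (pullback.fst V₀.hom (𝟙 _)))
        (show pullback.fst V₀.hom (𝟙 _) ≫ V₀.hom = pullback.snd V₀.hom (𝟙 _) by
          rw [pullback.condition, Category.comp_id])
  let eV : (FEt.restrict m).obj W' ≅ V₀ :=
    restrictTrans m₀ (closedPart J f') (pullback.lift_fst _ _ _) e₀ eW'
  -- the completion as a limit of algebras of finite type
  let D := (H53.FinSub.diag A C).op ⋙ Scheme.Spec
  let c : Cone D := Scheme.Spec.mapCone (H53.FinSub.cocone A C).op
  let hc : IsLimit c := H53.FinSub.isLimit A C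
  haveI : ∀ {i j : (Finset C)ᵒᵖ} (h : i ⟶ j), IsAffineHom (D.map h) := fun h =>
    inferInstanceAs (IsAffineHom (Spec.map _))
  let i₀ : (Finset C)ᵒᵖ := op ∅
  let s₀ : D.obj i₀ ⟶ Spec (CommRingCat.of A) := Spec.map (H53.FinSub.str A C ∅)
  let a : pullback f s₀ ⟶ D.obj i₀ := pullback.snd f s₀
  have hs₀ : c.π.app i₀ ≫ s₀ = sA := (Spec.map_comp _ _).symm
  let q : pullback f sA ⟶ pullback f s₀ :=
    pullback.lift (pullback.fst _ _) (f' ≫ c.π.app i₀)
      (by rw [Category.assoc, hs₀]; exact pullback.condition)
  have hsq : IsPullback q f' a (c.π.app i₀) := by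
    refine IsPullback.of_right (h₁₂ := pullback.fst f s₀) (h₂₂ := s₀) (v₁₃ := f) ?_
      (pullback.lift_snd _ _ _) (IsPullback.of_hasPullback _ _)
    rw [pullback.lift_fst, hs₀]
    exact IsPullback.of_hasPullback _ _
  haveI : CompactSpace (pullback f s₀ : Scheme.{u}) :=
    haveI : IsProper a := MorphismProperty.pullback_snd (P := @IsProper) _ _ inferInstance
    haveI : CompactSpace (D.obj i₀) := inferInstanceAs (CompactSpace (Spec _))
    QuasiCompact.compactSpace_of_compactSpace a
  haveI : QuasiSeparatedSpace (pullback f s₀ : Scheme.{u}) :=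
    haveI : IsProper a := MorphismProperty.pullback_snd (P := @IsProper) _ _ inferInstance
    haveI : QuasiSeparatedSpace (D.obj i₀) := inferInstanceAs (QuasiSeparatedSpace (Spec _))
    quasiSeparatedSpace_of_quasiSeparated a
  haveI := fun j => Lim.Basic.compactSpace_bcDiagram D a j
  haveI := fun j => Lim.Basic.quasiSeparatedSpace_bcDiagram D a j
  haveI : ∀ (i j : Over i₀) (g : i ⟶ j), IsAffineHom ((Lim.Basic.bcDiagram D a).map g) := fun _ _ g =>
    inferInstance
  obtain ⟨j, Wj, ⟨ej⟩⟩ := (Groth.Agent.S12073.result (Lim.Basic.bcDiagram D a) (Lim.Basic.bcCone hsq.w)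
    (Lim.Basic.isLimitBcCone hc hsq)).1 W'
  let N : Subalgebra A C := Algebra.adjoin A ((j.left.unop : Finset C) : Set C)
  haveI : Algebra.FiniteType A N :=
    (Subalgebra.fg_iff_finiteType N).1 (Subalgebra.fg_adjoin_finset _)
  haveI : Algebra.FinitePresentation A N := Algebra.FinitePresentation.of_finiteType.1 inferInstance
  obtain ⟨τ, hτ⟩ := Groth.Agent.H21.PopescuApprox.exists_algHom I hreg N N.val 1
  let jN : Spec (CommRingCat.of A) ⟶ D.obj j.left := Spec.map (CommRingCat.ofHom τ.toRingHom)
  have hjN : jN ≫ D.map j.hom ≫ s₀ = 𝟙 _ := by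
    change Spec.map _ ≫ Spec.map _ ≫ Spec.map _ = _
    rw [← Spec.map_comp, ← Spec.map_comp, ← Spec.map_id]
    exact congrArg Spec.map (CommRingCat.hom_ext (RingHom.ext fun r => τ.commutes r))
  let σ : X ⟶ pullback f s₀ := pullback.lift (𝟙 X) (f ≫ jN ≫ D.map j.hom)
    (by rw [Category.id_comp, Category.assoc, Category.assoc, hjN, Category.comp_id])
  let μ : X ⟶ pullback a (D.map j.hom) := pullback.lift σ (f ≫ jN)
    (by rw [pullback.lift_snd, Category.assoc])
  have hθτ : Spec.map (CommRingCat.ofHom θ.toRingHom) ≫ c.π.app j.left = HenselianPair.incl I ≫ jN := by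
    change Spec.map _ ≫ Spec.map _ = Spec.map _ ≫ Spec.map _
    rw [← Spec.map_comp, ← Spec.map_comp]
    refine congrArg Spec.map (CommRingCat.hom_ext (RingHom.ext fun x => ?_))
    change Ideal.Quotient.factorₐ A (pow_one I).le (AdicCompletion.evalₐ I 1 (N.val x)) = Ideal.Quotient.mk I (τ x)
    rw [← hτ x]
    rfl
  have hmμ : m ≫ (Lim.Basic.bcCone hsq.w).π.app j = closedPart I f ≫ μ := by
    apply pullback.hom_ext
    · rw [Category.assoc, Category.assoc]
      erw [Lim.Basic.bcCone_π_fst hsq.w j]
      rw [pullback.lift_fst]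
      apply pullback.hom_ext
      · simp only [Category.assoc, q, σ, m, pullback.lift_fst, Category.comp_id]
      · simp only [Category.assoc, q, σ, m, pullback.lift_snd]
        rw [← c.w j.hom, ← Category.assoc m, pullback.lift_snd, Category.assoc]
        erw [reassoc_of% hθτ]
        rw [← pullback.condition_assoc]
    · rw [Category.assoc, Category.assoc]
      erw [Lim.Basic.bcCone_π_snd hsq.w j]
      rw [pullback.lift_snd, ← Category.assoc m, pullback.lift_snd, Category.assoc, hθτ,
        ← pullback.condition_assoc]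
  exact mem_essImage_of_comp (closedPart I f) μ hmμ.symm Wj (restrictTrans m _ rfl eV ej)

end Groth.Agent.Lib.PropHens.GRing
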