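import Groth.Agent.Lib.PropHens.Pullback
import Groth.Agent.Lib.Lim.Approx.Proper

/-!
# Finite etale covers of a proper scheme over a henselian pair
-/

set_option linter.style.haveILetI false
set_option backward.isDefEq.respectTransparency false

noncomputable section

universe u

open CategoryTheory CategoryTheory.Limits AlgebraicGeometry Opposite

namespace Groth.Agent.Lib.PropHens

open Groth.Agent.Lib.FEt

theorem exists_lift {A : Type u} [CommRing A] (I : Ideal A) [HenselianRing A I] {X : Scheme.{u}}
    (f : X ⟶ Spec (CommRingCat.of A)) [IsProper f]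
    (V₀ : FEt.Cat (pullback f (HenselianPair.incl I))) :
    ∃ W : FEt.Cat X, Nonempty ((FEt.restrict (closedPart I f)).obj W ≅ V₀) := by
  obtain ⟨R, hcl, hπ, hprop⟩ := Lim.Approx.Proper.exists_properApprox f
  obtain ⟨k₀⟩ := R.ne
  let i₀ : R.Kᵒᵖ := op k₀
  let f₀ : R.D.obj i₀ ⟶ Spec (CommRingCat.of A) := R.t.app i₀
  let a : pullback f₀ (HenselianPair.incl I) ⟶ R.D.obj i₀ := pullback.fst _ _
  let q : pullback f (HenselianPair.incl I) ⟶ pullback f₀ (HenselianPair.incl I) :=
    pullback.lift (pullback.fst _ _ ≫ R.π.app i₀) (pullback.snd _ _)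
      (by rw [Category.assoc, R.w]; exact pullback.condition)
  have hsq : IsPullback q (pullback.fst f (HenselianPair.incl I)) a (R.cone.π.app i₀) := by
    refine IsPullback.of_right (h₁₂ := pullback.snd f₀ (HenselianPair.incl I))
      (h₂₂ := f₀) (v₁₃ := HenselianPair.incl I) ?_ (pullback.lift_fst _ _ _)
      (IsPullback.of_hasPullback f₀ (HenselianPair.incl I)).flip
    rw [pullback.lift_snd, show R.cone.π.app i₀ ≫ f₀ = f from R.w i₀]
    exact (IsPullback.of_hasPullback f (HenselianPair.incl I)).flip
  haveI : IsProper f₀ := hprop i₀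
  haveI : IsProper (pullback.snd f₀ (HenselianPair.incl I)) :=
    MorphismProperty.pullback_snd (P := @IsProper) _ _ inferInstance
  haveI : CompactSpace (pullback f₀ (HenselianPair.incl I) : Scheme.{u}) :=
    QuasiCompact.compactSpace_of_compactSpace (pullback.snd f₀ (HenselianPair.incl I))
  haveI : QuasiSeparatedSpace (pullback f₀ (HenselianPair.incl I) : Scheme.{u}) :=
    quasiSeparatedSpace_of_quasiSeparated (pullback.snd f₀ (HenselianPair.incl I))
  haveI := fun j => Lim.Basic.compactSpace_bcDiagram R.D a j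
  haveI := fun j => Lim.Basic.quasiSeparatedSpace_bcDiagram R.D a j
  haveI : ∀ (i j : Over i₀) (k : i ⟶ j), IsAffineHom ((Lim.Basic.bcDiagram R.D a).map k) := fun _ _ k =>
    inferInstance
  obtain ⟨j, Vj, ⟨ej⟩⟩ := (Groth.Agent.S12073.result (Lim.Basic.bcDiagram R.D a) (Lim.Basic.bcCone hsq.w)
    (Lim.Basic.isLimitBcCone R.isLimit hsq)).1 V₀
  let fk : R.D.obj j.left ⟶ Spec (CommRingCat.of A) := R.t.app j.left
  haveI : IsProper fk := hprop _
  haveI : LocallyOfFinitePresentation fk := R.lfp _
  have hfk : R.D.map j.hom ≫ f₀ = fk := by simpa [f₀, fk] using R.t.naturality j.hom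
  let ν : pullback fk (HenselianPair.incl I) ⟶ pullback a (R.D.map j.hom) :=
    pullback.lift (pullback.lift (pullback.fst _ _ ≫ R.D.map j.hom) (pullback.snd _ _)
      (by rw [Category.assoc, hfk]; exact pullback.condition)) (pullback.fst _ _)
      (by rw [pullback.lift_fst])
  let v₀ : pullback f (HenselianPair.incl I) ⟶ pullback fk (HenselianPair.incl I) :=
    pullback.lift (pullback.fst _ _ ≫ R.π.app j.left) (pullback.snd _ _)
      (by rw [Category.assoc, R.w]; exact pullback.condition)
  have hν : v₀ ≫ ν = (Lim.Basic.bcCone hsq.w).π.app j := by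
    apply pullback.hom_ext
    · rw [Category.assoc]
      erw [Lim.Basic.bcCone_π_fst hsq.w j]
      rw [pullback.lift_fst]
      apply pullback.hom_ext
      · simp only [Category.assoc, v₀, q, pullback.lift_fst, pullback.lift_fst_assoc]
        erw [Cone.w R.cone j.hom]
      · simp only [Category.assoc, v₀, q, pullback.lift_snd]
    · rw [Category.assoc]
      erw [Lim.Basic.bcCone_π_snd hsq.w j]
      rw [pullback.lift_snd, pullback.lift_fst]
  obtain ⟨W, ⟨eW⟩⟩ := Pullback.exists_lift I fk ((FEt.restrict ν).obj Vj)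
  let eV : (FEt.restrict v₀).obj ((FEt.restrict ν).obj Vj) ≅ V₀ :=
    ((restrictComp v₀ ν).app Vj).symm ≪≫ (restrictCongr hν).app Vj ≪≫ ej
  exact mem_essImage_of_square (closedPart I f) v₀ (closedPart I fk) (R.π.app j.left)
    (pullback.lift_fst _ _ _).symm eV eW

/-- Restriction to the closed part is an equivalence. -/
theorem isEquivalence {A : Type u} [CommRing A] (I : Ideal A) [HenselianRing A I] {X : Scheme.{u}}
    (f : X ⟶ Spec (CommRingCat.of A)) [IsProper f] :
    (FEt.restrict (closedPart I f)).IsEquivalence :=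
  haveI := (full_and_faithful I f).1
  haveI := (full_and_faithful I f).2
  haveI : (FEt.restrict (closedPart I f)).EssSurj := ⟨fun V => exists_lift I f V⟩
  { }

end Groth.Agent.Lib.PropHens
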