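import Groth.Agent.Lib.PropHens.GRing
import Groth.Agent.Lib.Henselian.GRingColimit
import Groth.Agent.Lib.Lim.FPDescend
import Groth.Agent.S2051
import Groth.Agent.S9276
import Groth.Agent.S2074
import Mathlib.RingTheory.MvPolynomial.Basic

/-!
# Finitely presented proper schemes over a henselian pair
-/

set_option linter.style.haveILetI false
set_option backward.isDefEq.respectTransparency false

noncomputable section

universe u

open CategoryTheory CategoryTheory.Limits AlgebraicGeometry Opposite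

namespace Groth.Agent.Lib.PropHens.Pullback

open Groth.Agent.Lib.FEt

/-- The integers, in the universe at hand. -/
abbrev Z : Type u := ULift.{u} ℤ

theorem exists_base {A : Type u} [CommRing A] {X : Scheme.{u}} (f : X ⟶ Spec (CommRingCat.of A))
    [IsProper f] [LocallyOfFinitePresentation f] :
    ∃ (R : Type u) (_ : CommRing R) (_ : Algebra R A), _root_.CAlg.IsGRing R ∧
      ∃ (X' : Scheme.{u}) (f' : X' ⟶ Spec (CommRingCat.of R)) (g : X ⟶ X'),
        IsProper f' ∧ IsPullback g f f' (Spec.map (CommRingCat.ofHom (algebraMap R A))) := by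
  classical
  letI : Algebra Z.{u} A := ((Int.castRingHom A).comp (ULift.ringEquiv : Z.{u} ≃+* ℤ).toRingHom).toAlgebra
  let D := (H53.FinSub.diag Z.{u} A).op ⋙ Scheme.Spec
  let c : Cone D := Scheme.Spec.mapCone (H53.FinSub.cocone Z.{u} A).op
  let hc : IsLimit c := H53.FinSub.isLimit Z.{u} A
  haveI : ∀ {i j : (Finset A)ᵒᵖ} (h : i ⟶ j), IsAffineHom (D.map h) := fun h =>
    inferInstanceAs (IsAffineHom (Spec.map _))
  haveI : ∀ (i j : (Finset A)ᵒᵖ) (h : i ⟶ j), IsAffineHom (D.map h) := fun _ _ h => inferInstance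
  haveI : ∀ i, CompactSpace (D.obj i) := fun i => inferInstanceAs (CompactSpace (Spec _))
  haveI : ∀ i, QuasiSeparatedSpace (D.obj i) := fun i => inferInstanceAs (QuasiSeparatedSpace (Spec _))
  haveI : CompactSpace X := QuasiCompact.compactSpace_of_compactSpace f
  haveI : QuasiSeparatedSpace X := quasiSeparatedSpace_of_quasiSeparated f
  obtain ⟨i, X₀, f₀, g, hX₀c, hX₀q, hf₀, hg⟩ := Lim.FPDescend.exists_descent hc (X := X) f
  obtain ⟨j, φ, Xj, Yj, fj, gj, pY, pX, hY, hX, hfj⟩ := Groth.Agent.S2074.result D c hc i f₀ (𝟙 _)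
    (Y := c.pt) f (𝟙 _) (c.π.app i) g (IsPullback.of_vert_isIso ⟨by rw [Category.comp_id, Category.id_comp]⟩) hg
  have hpY : pY = gj ≫ D.map φ := by simpa using hY.w
  haveI : IsIso gj := by
    rw [← hY.isoPullback_hom_snd]
    infer_instance
  let N : Subalgebra Z.{u} A := Algebra.adjoin Z.{u} ((j.unop : Finset A) : Set A)
  haveI : Algebra.FiniteType Z.{u} N :=
    (Subalgebra.fg_iff_finiteType N).1 (Subalgebra.fg_adjoin_finset _)
  let t : pullback f₀ (D.map φ) ⟶ D.obj j := pullback.snd f₀ (D.map φ)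
  have hsq : IsPullback pX (fj ≫ gj) f₀ (D.map φ) := by
    have := hX.paste_vert hY
    rwa [Category.comp_id] at this
  let g' : X ⟶ Xj := hsq.lift g (f ≫ c.π.app j) (by rw [Category.assoc, c.w, hg.w])
  have hg' : IsPullback g' f (fj ≫ gj) (c.π.app j) := by
    refine IsPullback.of_right (h₁₂ := pX) (h₂₂ := D.map φ) (v₁₃ := f₀) ?_ (hsq.lift_snd _ _ _) hsq
    rw [hsq.lift_fst, c.w]
    exact hg
  haveI := hfj
  exact ⟨N, inferInstance, inferInstance,
    GRing.FiniteType.isGRing Z.{u} Henselian.GRingColimit.isGRing_Z N, Xj, fj ≫ gj, g', inferInstance, hg'⟩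

theorem exists_lift {A : Type u} [CommRing A] (I : Ideal A) [HenselianRing A I] {X : Scheme.{u}}
    (f : X ⟶ Spec (CommRingCat.of A)) [IsProper f] [LocallyOfFinitePresentation f]
    (V₀ : FEt.Cat (pullback f (HenselianPair.incl I))) :
    ∃ W : FEt.Cat X, Nonempty ((FEt.restrict (closedPart I f)).obj W ≅ V₀) := by
  classical
  obtain ⟨R, _, _, hR, X', f', g, hf', hg⟩ := exists_base f
  haveI := hf'
  let D := (H53.FinSub.diag R (A ⧸ I)).op ⋙ Scheme.Spec
  let c : Cone D := Scheme.Spec.mapCone (H53.FinSub.cocone R (A ⧸ I)).op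
  let hc : IsLimit c := H53.FinSub.isLimit R (A ⧸ I)
  haveI : ∀ {i j : (Finset (A ⧸ I))ᵒᵖ} (h : i ⟶ j), IsAffineHom (D.map h) := fun h =>
    inferInstanceAs (IsAffineHom (Spec.map _))
  let i₀ : (Finset (A ⧸ I))ᵒᵖ := op ∅
  let s₀ : D.obj i₀ ⟶ Spec (CommRingCat.of R) := Spec.map (H53.FinSub.str R (A ⧸ I) ∅)
  let a : pullback f' s₀ ⟶ D.obj i₀ := pullback.snd f' s₀
  have hs₀ : c.π.app i₀ ≫ s₀ = Spec.map (CommRingCat.ofHom (algebraMap R (A ⧸ I))) :=
    (Spec.map_comp _ _).symm
  have hinc : HenselianPair.incl I ≫ Spec.map (CommRingCat.ofHom (algebraMap R A)) =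
      Spec.map (CommRingCat.ofHom (algebraMap R (A ⧸ I))) := (Spec.map_comp _ _).symm
  have hX0 : IsPullback (pullback.fst f (HenselianPair.incl I) ≫ g) (pullback.snd f (HenselianPair.incl I))
      f' (Spec.map (CommRingCat.ofHom (algebraMap R (A ⧸ I)))) := by
    rw [← hinc]
    exact (IsPullback.of_hasPullback f _).paste_horiz hg
  let q : pullback f (HenselianPair.incl I) ⟶ pullback f' s₀ :=
    pullback.lift (pullback.fst _ _ ≫ g) (pullback.snd _ _ ≫ c.π.app i₀)
      (by rw [hX0.w, Category.assoc, hs₀])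
  have hsq : IsPullback q (pullback.snd f (HenselianPair.incl I)) a (c.π.app i₀) := by
    refine IsPullback.of_right (h₁₂ := pullback.fst f' s₀) (h₂₂ := s₀) (v₁₃ := f') ?_
      (pullback.lift_snd _ _ _) (IsPullback.of_hasPullback _ _)
    rw [pullback.lift_fst, hs₀]
    exact hX0
  haveI : IsProper a := MorphismProperty.pullback_snd (P := @IsProper) _ _ inferInstance
  haveI : CompactSpace (pullback f' s₀ : Scheme.{u}) :=
    haveI : CompactSpace (D.obj i₀) := inferInstanceAs (CompactSpace (Spec _))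
    QuasiCompact.compactSpace_of_compactSpace a
  haveI : QuasiSeparatedSpace (pullback f' s₀ : Scheme.{u}) :=
    haveI : QuasiSeparatedSpace (D.obj i₀) := inferInstanceAs (QuasiSeparatedSpace (Spec _))
    quasiSeparatedSpace_of_quasiSeparated a
  haveI := fun j => Lim.Basic.compactSpace_bcDiagram D a j
  haveI := fun j => Lim.Basic.quasiSeparatedSpace_bcDiagram D a j
  haveI : ∀ (i j : Over i₀) (k : i ⟶ j), IsAffineHom ((Lim.Basic.bcDiagram D a).map k) := fun _ _ k =>
    inferInstance
  obtain ⟨j, Vj, ⟨ej⟩⟩ := (Groth.Agent.S12073.result (Lim.Basic.bcDiagram D a) (Lim.Basic.bcCone hsq.w)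
    (Lim.Basic.isLimitBcCone hc hsq)).1 V₀
  -- lift the generators
  let sj : Finset (A ⧸ I) := j.left.unop
  choose lft hlft using fun x : {x // x ∈ sj} => Ideal.Quotient.mk_surjective (I := I) x.1
  let P := MvPolynomial {x // x ∈ sj} R
  let ev : P →ₐ[R] A := MvPolynomial.aeval lft
  let θ : P →ₐ[R] A ⧸ I := (Ideal.Quotient.mkₐ R I).comp ev
  let K : Ideal P := RingHom.ker θ.toRingHom
  have hrange : θ.range = Algebra.adjoin R (sj : Set (A ⧸ I)) := by
    have : θ = MvPolynomial.aeval (fun x : {x // x ∈ sj} => x.1) := by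
      refine MvPolynomial.algHom_ext fun x => ?_
      simp [θ, ev, hlft]
    rw [this, ← Algebra.adjoin_range_eq_range_aeval]
    congr 1
    ext x
    simp
  have hP : _root_.CAlg.IsGRing P := GRing.FiniteType.isGRing R hR P
  haveI : IsNoetherianRing P := hP.1
  obtain ⟨B, _, _, hB⟩ := Groth.Agent.S2051.result P K
  have hBG : _root_.CAlg.IsGRing B := Groth.Agent.S9276.result P hP K B hB
  let KB : Ideal B := K.map (algebraMap P B)
  haveI : HenselianRing B KB := hB.1
  obtain ⟨gB, hgB, -⟩ := hB.2 A I ev.toRingHom inferInstance (Ideal.map_le_iff_le_comap.2 fun p hp => by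
    show ev p ∈ I
    exact Ideal.Quotient.eq_zero_iff_mem.1 (show Ideal.Quotient.mk I (ev p) = 0 from hp))
  have hgBI : KB ≤ I.comap gB := Ideal.map_le_iff_le_comap.2 fun p hp => by
    show gB (algebraMap P B p) ∈ I
    rw [← RingHom.comp_apply, hgB]
    exact Ideal.Quotient.eq_zero_iff_mem.1 (show Ideal.Quotient.mk I (ev p) = 0 from hp)
  let ψR : R →+* B := (algebraMap P B).comp (algebraMap R P)
  have hψR : gB.comp ψR = algebraMap R A := by
    rw [← RingHom.comp_assoc, hgB]
    exact ev.comp_algebraMap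
  let sB : Spec (CommRingCat.of B) ⟶ Spec (CommRingCat.of R) := Spec.map (CommRingCat.ofHom ψR)
  let fB : pullback f' sB ⟶ Spec (CommRingCat.of B) := pullback.snd f' sB
  haveI : IsProper fB := MorphismProperty.pullback_snd (P := @IsProper) _ _ inferInstance
  -- the map from the stage to the quotient of the henselization
  let lift₀ : P ⧸ K →+* θ.range := Ideal.Quotient.lift K θ.rangeRestrict.toRingHom fun p hp => Subtype.ext hp
  have hlift₀ : ∀ p : P, (lift₀ (Ideal.Quotient.mk K p) : A ⧸ I) = θ p := fun p => rfl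
  let e : (P ⧸ K) ≃+* θ.range := RingEquiv.ofBijective lift₀ ⟨(injective_iff_map_eq_zero lift₀).2 fun z hz => by
      obtain ⟨p, rfl⟩ := Ideal.Quotient.mk_surjective z
      refine Ideal.Quotient.eq_zero_iff_mem.2 (show θ p = 0 from ?_)
      rw [← hlift₀, hz]
      rfl, fun y => by
      obtain ⟨p, hp⟩ := y.2
      exact ⟨Ideal.Quotient.mk K p, Subtype.ext hp⟩⟩
  let toB : (Algebra.adjoin R (sj : Set (A ⧸ I))) →+* B ⧸ KB :=
    ((Ideal.quotientMap KB (algebraMap P B) Ideal.le_comap_map).comp e.symm.toRingHom).comp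
      (Subalgebra.equivOfEq _ _ hrange.symm).toRingEquiv.toRingHom
  let toA : B ⧸ KB →+* A ⧸ I := Ideal.quotientMap I gB hgBI
  have htoA : toA.comp toB = (Algebra.adjoin R (sj : Set (A ⧸ I))).val.toRingHom := by
    ext x
    obtain ⟨p, hp⟩ := Ideal.Quotient.mk_surjective (e.symm ((Subalgebra.equivOfEq _ _ hrange.symm) x))
    show toA (Ideal.quotientMap KB (algebraMap P B) Ideal.le_comap_map
      (e.symm ((Subalgebra.equivOfEq _ _ hrange.symm) x))) = (x : A ⧸ I)
    rw [← hp, Ideal.quotientMap_mk, Ideal.quotientMap_mk, ← RingHom.comp_apply gB, hgB]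
    have h2 : e (Ideal.Quotient.mk K p) = (Subalgebra.equivOfEq _ _ hrange.symm) x := by
      rw [hp, RingEquiv.apply_symm_apply]
    have h4 := congrArg Subtype.val h2
    exact (hlift₀ p).symm.trans h4
  have htoR : toB.comp (algebraMap R (Algebra.adjoin R (sj : Set (A ⧸ I)))) =
      (Ideal.Quotient.mk KB).comp ψR := by
    ext r
    show Ideal.quotientMap KB (algebraMap P B) Ideal.le_comap_map
      (e.symm ((Subalgebra.equivOfEq _ _ hrange.symm) (algebraMap R _ r))) = _
    have h3 : e.symm ((Subalgebra.equivOfEq _ _ hrange.symm) (algebraMap R _ r)) =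
        Ideal.Quotient.mk K (algebraMap R P r) := by
      rw [RingEquiv.symm_apply_eq]
      exact Subtype.ext ((θ.commutes r).symm.trans (hlift₀ _).symm)
    rw [h3, Ideal.quotientMap_mk]
    rfl
  let tB : Spec (CommRingCat.of (B ⧸ KB)) ⟶ D.obj j.left := Spec.map (CommRingCat.ofHom toB)
  have htB : tB ≫ D.map j.hom ≫ s₀ = HenselianPair.incl KB ≫ sB := by
    change Spec.map _ ≫ Spec.map _ ≫ Spec.map _ = Spec.map _ ≫ Spec.map _
    rw [← Spec.map_comp, ← Spec.map_comp, ← Spec.map_comp]
    exact congrArg Spec.map (CommRingCat.hom_ext (RingHom.ext fun r => congr($htoR r)))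
  let σ : pullback fB (HenselianPair.incl KB) ⟶ pullback f' s₀ :=
    pullback.lift (pullback.fst _ _ ≫ pullback.fst f' sB) (pullback.snd _ _ ≫ tB ≫ D.map j.hom) (by
      rw [Category.assoc, Category.assoc, Category.assoc, htB, pullback.condition,
        ← Category.assoc, pullback.condition, Category.assoc])
  let μ : pullback fB (HenselianPair.incl KB) ⟶ pullback a (D.map j.hom) :=
    pullback.lift σ (pullback.snd _ _ ≫ tB) (by rw [pullback.lift_snd, Category.assoc])
  obtain ⟨W', ⟨eW'⟩⟩ := GRing.exists_lift hBG KB fB ((FEt.restrict μ).obj Vj)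
  let v : X ⟶ pullback f' sB := pullback.lift g (f ≫ Spec.map (CommRingCat.ofHom gB)) (by
    rw [hg.w, Category.assoc, ← Spec.map_comp, ← CommRingCat.ofHom_comp, hψR])
  let v₀ : pullback f (HenselianPair.incl I) ⟶ pullback fB (HenselianPair.incl KB) :=
    pullback.lift (closedPart I f ≫ v) (pullback.snd _ _ ≫ Spec.map (CommRingCat.ofHom toA)) (by
      rw [Category.assoc, pullback.lift_snd, ← Category.assoc, pullback.condition, Category.assoc,
        Category.assoc, ← Spec.map_comp, ← Spec.map_comp]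
      rfl)
  have htA : Spec.map (CommRingCat.ofHom toA) ≫ tB = c.π.app j.left := by
    change Spec.map _ ≫ Spec.map _ = Spec.map _
    rw [← Spec.map_comp]
    exact congrArg Spec.map (CommRingCat.hom_ext htoA)
  have hvμ : v₀ ≫ μ = (Lim.Basic.bcCone hsq.w).π.app j := by
    apply pullback.hom_ext
    · rw [Category.assoc]
      erw [Lim.Basic.bcCone_π_fst hsq.w j]
      rw [pullback.lift_fst]
      apply pullback.hom_ext
      · simp only [Category.assoc, q, σ, v₀, v, pullback.lift_fst, pullback.lift_fst_assoc]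
      · simp only [Category.assoc, q, σ, v₀, pullback.lift_snd, pullback.lift_snd_assoc]
        rw [← c.w j.hom]
        erw [reassoc_of% htA]
    · rw [Category.assoc]
      erw [Lim.Basic.bcCone_π_snd hsq.w j]
      rw [pullback.lift_snd, pullback.lift_snd_assoc, Category.assoc, htA]
  let eV : (FEt.restrict v₀).obj ((FEt.restrict μ).obj Vj) ≅ V₀ :=
    ((restrictComp v₀ μ).app Vj).symm ≪≫ (restrictCongr hvμ).app Vj ≪≫ ej
  exact mem_essImage_of_square (closedPart I f) v₀ (closedPart KB fB) v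
    (pullback.lift_fst _ _ _).symm eV eW'

end Groth.Agent.Lib.PropHens.Pullback
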